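import Cfsg.Agent.Lib.H6.J1TC.Steps1

set_option autoImplicit false
set_option maxRecDepth 1000000

/-! # invariant through part 1 of J1 (generated) -/

namespace Cfsg.Agent.Lib.H6.J1TC

open Cfsg.Agent.Lib.H17.CosetCert Cfsg.Agent.Lib.H6.TC

theorem part1 {G Q : Type} [Group G] [MulAction G Q] (γ : ℕ → G)
    (hiv : ∀ x < 6, γ (iv x) = (γ x)⁻¹) (q0 : Q) (hw : WordsOK γ q0 words)
    (h0 : Inv F 6 γ q0 25000 9019) : Inv F 6 γ q0 32838 10924 := by
  have h1 := checkSteps_sound F iv 6 65536 γ hiv q0 words hw steps25 25000 9019 9309 h0 chk25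
  rw [len25] at h1
  have h2 := checkSteps_sound F iv 6 65536 γ hiv q0 words hw steps26 26000 9309 9575 h1 chk26
  rw [len26] at h2
  have h3 := checkSteps_sound F iv 6 65536 γ hiv q0 words hw steps27 27000 9575 9806 h2 chk27
  rw [len27] at h3
  have h4 := checkSteps_sound F iv 6 65536 γ hiv q0 words hw steps28 28000 9806 10050 h3 chk28
  rw [len28] at h4
  have h5 := checkSteps_sound F iv 6 65536 γ hiv q0 words hw steps29 29000 10050 10314 h4 chk29
  rw [len29] at h5
  have h6 := checkSteps_sound F iv 6 65536 γ hiv q0 words hw steps30 30000 10314 10549 h5 chk30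
  rw [len30] at h6
  have h7 := checkSteps_sound F iv 6 65536 γ hiv q0 words hw steps31 31000 10549 10763 h6 chk31
  rw [len31] at h7
  have h8 := checkSteps_sound F iv 6 65536 γ hiv q0 words hw steps32 32000 10763 10924 h7 chk32
  rw [len32] at h8
  exact h8

end Cfsg.Agent.Lib.H6.J1TC
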