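import Cfsg.Agent.Lib.H6.TC

set_option autoImplicit false
set_option maxRecDepth 1000000

/-! # facts subtree 4 of J1 (generated) -/

namespace Cfsg.Agent.Lib.H6.J1TC

open Cfsg.Agent.Lib.H17.CosetCert Cfsg.Agent.Lib.H6.TC

/-- packed facts, subtree -/
def ft4 : BT := .node (.leaf 0x2d5555550aaaeaaab555d556aaabaa905555555baaaea9e5553d554aaaaaa76d5515540aaa6aa8b554d552aaa9aa945551554baaa6a9b55535550aaa8aa68554f54f3aa9ea9d9553d4e62a9eaa9ed54f52d8aa9aa9b755355352aa6a9d455375535aa9aa59754dd54a2aa5a732554b53b0a732aa5b552d396ea9eaa9055494e3caa92a7414e3d5496aa4a71a53c15518aa8ea625551d3c969feaa8c54c5551baa8e9b7155153c2aaa2a989d5454f2caa8a9fb14f0d5456aa2a6d455434c02aa86a8b7550d3862980aa8652f1550caa869721550550caaa0a8bdd5414bd8aa1aaa0950455412aa0a5b1530154faaa7ea82154fd5262a93aa7e54b554fcaa7e962954f53896a9ea548553b53a4aa769c7) (.leaf 0)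

end Cfsg.Agent.Lib.H6.J1TC
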