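import Cfsg.Agent.Lib.H6.J1TC.Facts0
import Cfsg.Agent.Lib.H6.J1TC.Facts1
import Cfsg.Agent.Lib.H6.J1TC.Facts2
import Cfsg.Agent.Lib.H6.J1TC.Facts3
import Cfsg.Agent.Lib.H6.J1TC.Facts4
import Cfsg.Agent.Lib.H6.J1TC.Facts5
import Cfsg.Agent.Lib.H6.J1TC.Facts6
import Cfsg.Agent.Lib.H6.J1TC.Facts7

set_option autoImplicit false
set_option maxRecDepth 1000000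

/-! # facts and words of J1 (generated) -/

namespace Cfsg.Agent.Lib.H6.J1TC

open Cfsg.Agent.Lib.H17.CosetCert Cfsg.Agent.Lib.H6.TC

/-- the packed facts -/
def factTree : BT := .node (.node (.node (ft0) (ft1)) (.node (ft2) (ft3))) (.node (.node (ft4) (ft5)) (.node (ft6) (ft7)))

/-- fact number `f` -/
noncomputable def F (f : ℕ) : ℕ × ℕ × ℕ := factOf factTree 8 4096 31 2147483648 14 16384 f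

/-- the inverse letter -/
def iv (x : ℕ) : ℕ := (cond (Nat.beq x 0) 1 (cond (Nat.beq x 1) 0 (cond (Nat.beq x 2) 3 (cond (Nat.beq x 3) 2 (cond (Nat.beq x 4) 5 (cond (Nat.beq x 5) 4 x))))))

/-- the words: relator rotations, subgroup generators, trivial words -/
def words : WT := .node (.node (.node (.node (.node (.node (.node (.leaf [0, 0] true) (.leaf [4, 4, 4, 4, 0, 2, 0, 2, 0, 3, 0, 3, 0, 2, 4, 4, 4, 4, 4, 4, 0, 2, 0, 2, 0, 3, 0, 3, 0, 2, 4, 4] true)) (.node (.leaf [4, 4, 0, 2, 4, 4, 4, 0, 2, 4, 4, 4, 0, 2, 4, 4, 4, 0, 2, 4, 4, 4, 0, 2, 4] true) (.leaf [0, 2, 0, 3, 5] true))) (.node (.node (.leaf [2, 0, 2, 0, 2, 0, 2, 0, 2, 0, 2, 0, 2, 0] true) (.leaf [4, 4, 4, 4, 4, 4, 4, 4, 4, 4, 4, 4, 4, 4, 4, 4,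 4, 4, 4] true)) (.leaf [4, 4, 4, 4, 0, 2, 0, 2, 0, 3, 0, 3, 0, 2, 4, 4, 4, 4, 4, 4, 0, 2, 0, 2, 0, 3, 0, 3, 0, 2, 4, 4] true))) (.node (.node (.node (.leaf [2, 0, 2, 0, 2, 0, 2, 0, 2, 0, 2, 0, 2, 0] true) (.leaf [0, 3, 0, 3, 0, 2, 4, 4, 4, 4, 4, 4, 0, 2, 0, 2, 0, 3, 0, 3, 0, 2, 4, 4, 4, 4, 4, 4, 0, 2, 0, 2] true)) (.node (.leaf [2, 4, 4, 4, 0, 2, 4, 4, 4, 0, 2, 4, 4, 4, 0, 2, 4, 4, 4, 0, 2, 4, 4, 4, 0] true) (.leaf [2, 3] true))) (.node (.node (.leaf [0, 2, 4, 4, 4, 0, 2, 4, 4, 4, 0, 2, 4, 4, 4, 0, 2, 4, 4, 4, 0, 2, 4, 4, 4] true) (.leaf [4, 4, 4, 4, 4, 4, 4, 4, 4, 4, 4, 4, 4, 4, 4, 4, 4, 4, 4] true)) (.leaf [0, 3, 0, 3, 0, 2, 4, 4, 4, 4, 4, 4, 0, 2, 0, 2, 0, 3, 0, 3, 0, 2, 4, 4, 4, 4, 4, 4, 0, 2, 0, 2]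 true)))) (.node (.node (.node (.node (.leaf [2, 2, 2] true) (.leaf [0, 2, 0, 2, 0, 3, 0, 3, 0, 2, 4, 4, 4, 4, 4, 4, 0, 2, 0, 2, 0, 3, 0, 3, 0, 2, 4, 4, 4, 4, 4, 4] true)) (.node (.leaf [4, 4, 4, 0, 2, 4, 4, 4, 0, 2, 4, 4, 4, 0, 2, 4, 4, 4, 0, 2, 4, 4, 4, 0, 2] true) (.leaf [4] false))) (.node (.node (.leaf [2, 4, 4, 4, 0, 2, 4, 4, 4, 0, 2, 4, 4, 4, 0, 2, 4, 4, 4, 0, 2, 4, 4, 4, 0] true) (.leaf [4, 4, 4, 4, 4, 4, 4, 4, 4, 4, 4, 4, 4, 4, 4, 4, 4, 4, 4] true)) (.leaf [0, 2, 0, 2, 0, 3, 0, 3, 0, 2, 4, 4, 4, 4, 4, 4, 0, 2, 0, 2, 0, 3, 0, 3, 0, 2, 4, 4, 4, 4, 4, 4] true))) (.node (.node (.node (.leaf [2, 0, 2, 0, 2, 0, 2, 0, 2, 0, 2, 0, 2, 0] true) (.leaf [4, 4, 4, 4, 4, 4, 4, 4, 4, 4, 4, 4, 4, 4, 4, 4, 4, 4,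 4] true)) (.leaf [0, 2, 4, 4, 4, 4, 4, 4, 0, 2, 0, 2, 0, 3, 0, 3, 0, 2, 4, 4, 4, 4, 4, 4, 0, 2, 0, 2, 0, 3, 0, 3] true)) (.node (.node (.leaf [4, 0, 2, 4, 4, 4, 0, 2, 4, 4, 4, 0, 2, 4, 4, 4, 0, 2, 4, 4, 4, 0, 2, 4, 4] true) (.leaf [4, 4, 4, 4, 4, 4, 4, 4, 4, 4, 4, 4, 4, 4, 4, 4, 4, 4, 4] true)) (.leaf [0, 2, 4, 4, 4, 4, 4, 4, 0, 2, 0, 2, 0, 3, 0, 3, 0, 2, 4, 4, 4, 4, 4, 4, 0, 2, 0, 2, 0, 3, 0, 3] true))))) (.node (.node (.node (.node (.node (.leaf [2, 2, 2] true) (.leaf [4, 4, 0, 2, 0, 2, 0, 3, 0, 3, 0, 2, 4, 4, 4, 4, 4, 4, 0, 2, 0, 2, 0, 3, 0, 3, 0, 2, 4, 4, 4, 4] true)) (.node (.leaf [0, 2, 4, 4, 4, 0, 2, 4, 4, 4, 0, 2, 4, 4, 4, 0, 2, 4, 4, 4, 0, 2, 4, 4, 4] true) (.leaf [0, 3, 5, 0, 2] true))) (.node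 (.node (.leaf [2, 0, 2, 0, 2, 0, 2, 0, 2, 0, 2, 0, 2, 0] true) (.leaf [4, 4, 4, 4, 4, 4, 4, 4, 4, 4, 4, 4, 4, 4, 4, 4, 4, 4, 4] true)) (.leaf [4, 4, 0, 2, 0, 2, 0, 3, 0, 3, 0, 2, 4, 4, 4, 4, 4, 4, 0, 2, 0, 2, 0, 3, 0, 3, 0, 2, 4, 4, 4, 4] true))) (.node (.node (.node (.leaf [2, 0, 2, 0, 2, 0, 2, 0, 2, 0, 2, 0, 2, 0] true) (.leaf [0, 3, 0, 2, 4, 4, 4, 4, 4, 4, 0, 2, 0, 2, 0, 3, 0, 3, 0, 2, 4, 4, 4, 4, 4, 4, 0, 2, 0, 2, 0, 3] true)) (.node (.leaf [4, 4, 0, 2, 4, 4, 4, 0, 2, 4, 4, 4, 0, 2, 4, 4, 4, 0, 2, 4, 4, 4, 0, 2, 4] true) (.leaf [4, 5] true))) (.node (.node (.leaf [4, 4, 4, 0, 2, 4, 4, 4, 0, 2, 4, 4, 4, 0, 2, 4, 4, 4, 0, 2, 4, 4, 4, 0, 2] true) (.leaf [4, 4, 4, 4, 4, 4, 4, 4, 4, 4, 4, 4, 4, 4, 4, 4,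 4, 4, 4] true)) (.leaf [0, 3, 0, 2, 4, 4, 4, 4, 4, 4, 0, 2, 0, 2, 0, 3, 0, 3, 0, 2, 4, 4, 4, 4, 4, 4, 0, 2, 0, 2, 0, 3] true)))) (.node (.node (.node (.node (.leaf [2, 0, 2, 0, 2, 0, 2, 0, 2, 0, 2, 0, 2, 0] true) (.leaf [0, 2, 0, 3, 0, 3, 0, 2, 4, 4, 4, 4, 4, 4, 0, 2, 0, 2, 0, 3, 0, 3, 0, 2, 4, 4, 4, 4, 4, 4, 0, 2] true)) (.node (.leaf [4, 0, 2, 4, 4, 4, 0, 2, 4, 4, 4, 0, 2, 4, 4, 4, 0, 2, 4, 4, 4, 0, 2, 4, 4] true) (.leaf [0, 1] true))) (.node (.node (.leaf [4, 4, 0, 2, 4, 4, 4, 0, 2, 4, 4, 4, 0, 2, 4, 4, 4, 0, 2, 4, 4, 4, 0, 2, 4] true) (.leaf [4, 4, 4, 4, 4, 4, 4, 4, 4, 4, 4, 4, 4, 4, 4, 4, 4, 4, 4] true)) (.leaf [0, 2, 0, 3, 0, 3, 0, 2, 4, 4, 4, 4, 4, 4, 0, 2, 0, 2, 0, 3, 0, 3, 0, 2, 4, 4, 4, 4, 4,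 4, 0, 2] true))) (.node (.node (.node (.leaf [2, 0, 2, 0, 2, 0, 2, 0, 2, 0, 2, 0, 2, 0] true) (.leaf [4, 4, 4, 4, 4, 4, 4, 4, 4, 4, 4, 4, 4, 4, 4, 4, 4, 4, 4] true)) (.leaf [4, 4, 4, 4, 4, 4, 0, 2, 0, 2, 0, 3, 0, 3, 0, 2, 4, 4, 4, 4, 4, 4, 0, 2, 0, 2, 0, 3, 0, 3, 0, 2] true)) (.node (.node (.leaf [2, 4, 4, 4, 0, 2, 4, 4, 4, 0, 2, 4, 4, 4, 0, 2, 4, 4, 4, 0, 2, 4, 4, 4, 0] true) (.leaf [4, 4, 4, 4, 4, 4, 4, 4, 4, 4, 4, 4, 4, 4, 4, 4, 4, 4, 4] true)) (.leaf [4, 4, 4, 4, 4, 4, 0, 2, 0, 2, 0, 3, 0, 3, 0, 2, 4, 4, 4, 4, 4, 4, 0, 2, 0, 2, 0, 3, 0, 3, 0, 2] true)))))) (.node (.node (.node (.node (.node (.node (.leaf [0, 0] true) (.leaf [4, 4, 4, 0, 2, 0, 2, 0, 3, 0, 3, 0, 2, 4, 4, 4, 4, 4, 4, 0, 2, 0, 2, 0, 3,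 0, 3, 0, 2, 4, 4, 4] true)) (.node (.leaf [4, 0, 2, 4, 4, 4, 0, 2, 4, 4, 4, 0, 2, 4, 4, 4, 0, 2, 4, 4, 4, 0, 2, 4, 4] true) (.leaf [2, 0, 3, 5, 0] true))) (.node (.node (.leaf [0, 2, 0, 2, 0, 2, 0, 2, 0, 2, 0, 2, 0, 2] true) (.leaf [4, 4, 4, 4, 4, 4, 4, 4, 4, 4, 4, 4, 4, 4, 4, 4, 4, 4, 4] true)) (.leaf [4, 4, 4, 0, 2, 0, 2, 0, 3, 0, 3, 0, 2, 4, 4, 4, 4, 4, 4, 0, 2, 0, 2, 0, 3, 0, 3, 0, 2, 4, 4, 4] true))) (.node (.node (.node (.leaf [0, 2, 0, 2, 0, 2, 0, 2, 0, 2, 0, 2, 0, 2] true) (.leaf [3, 0, 3, 0, 2, 4, 4, 4, 4, 4, 4, 0, 2, 0, 2, 0, 3, 0, 3, 0, 2, 4, 4, 4, 4, 4, 4, 0, 2, 0, 2, 0] true)) (.node (.leaf [4, 4, 4, 0, 2, 4, 4, 4, 0, 2, 4, 4, 4, 0, 2, 4, 4, 4, 0, 2, 4, 4, 4, 0, 2] true) (.leaf [5, 4] true)))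 (.node (.node (.leaf [2, 4, 4, 4, 0, 2, 4, 4, 4, 0, 2, 4, 4, 4, 0, 2, 4, 4, 4, 0, 2, 4, 4, 4, 0] true) (.leaf [4, 4, 4, 4, 4, 4, 4, 4, 4, 4, 4, 4, 4, 4, 4, 4, 4, 4, 4] true)) (.leaf [3, 0, 3, 0, 2, 4, 4, 4, 4, 4, 4, 0, 2, 0, 2, 0, 3, 0, 3, 0, 2, 4, 4, 4, 4, 4, 4, 0, 2, 0, 2, 0] true)))) (.node (.node (.node (.node (.leaf [0, 2, 0, 2, 0, 2, 0, 2, 0, 2, 0, 2, 0, 2] true) (.leaf [2, 0, 2, 0, 3, 0, 3, 0, 2, 4, 4, 4, 4, 4, 4, 0, 2, 0, 2, 0, 3, 0, 3, 0, 2, 4, 4, 4, 4, 4, 4, 0] true)) (.node (.leaf [4, 4, 0, 2, 4, 4, 4, 0, 2, 4, 4, 4, 0, 2, 4, 4, 4, 0, 2, 4, 4, 4, 0, 2, 4] true) (.leaf [1, 0] true))) (.node (.node (.leaf [4, 4, 4, 0, 2, 4, 4, 4, 0, 2, 4, 4, 4, 0, 2, 4, 4, 4, 0, 2, 4, 4, 4, 0, 2] true) (.leaf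 [4, 4, 4, 4, 4, 4, 4, 4, 4, 4, 4, 4, 4, 4, 4, 4, 4, 4, 4] true)) (.leaf [2, 0, 2, 0, 3, 0, 3, 0, 2, 4, 4, 4, 4, 4, 4, 0, 2, 0, 2, 0, 3, 0, 3, 0, 2, 4, 4, 4, 4, 4, 4, 0] true))) (.node (.node (.node (.leaf [0, 2, 0, 2, 0, 2, 0, 2, 0, 2, 0, 2, 0, 2] true) (.leaf [4, 4, 4, 4, 4, 4, 4, 4, 4, 4, 4, 4, 4, 4, 4, 4, 4, 4, 4] true)) (.leaf [2, 4, 4, 4, 4, 4, 4, 0, 2, 0, 2, 0, 3, 0, 3, 0, 2, 4, 4, 4, 4, 4, 4, 0, 2, 0, 2, 0, 3, 0, 3, 0] true)) (.node (.node (.leaf [0, 2, 4, 4, 4, 0, 2, 4, 4, 4, 0, 2, 4, 4, 4, 0, 2, 4, 4, 4, 0, 2, 4, 4, 4] true) (.leaf [4, 4, 4, 4, 4, 4, 4, 4, 4, 4, 4, 4, 4, 4, 4, 4, 4, 4, 4] true)) (.leaf [2, 4, 4, 4, 4, 4, 4, 0, 2, 0, 2, 0, 3, 0, 3, 0, 2, 4, 4, 4, 4, 4, 4, 0, 2, 0, 2, 0, 3, 0, 3,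 0] true))))) (.node (.node (.node (.node (.node (.leaf [2, 2, 2] true) (.leaf [4, 0, 2, 0, 2, 0, 3, 0, 3, 0, 2, 4, 4, 4, 4, 4, 4, 0, 2, 0, 2, 0, 3, 0, 3, 0, 2, 4, 4, 4, 4, 4] true)) (.node (.leaf [2, 4, 4, 4, 0, 2, 4, 4, 4, 0, 2, 4, 4, 4, 0, 2, 4, 4, 4, 0, 2, 4, 4, 4, 0] true) (.leaf [3, 5, 0, 2, 0] true))) (.node (.node (.leaf [0, 2, 4, 4, 4, 0, 2, 4, 4, 4, 0, 2, 4, 4, 4, 0, 2, 4, 4, 4, 0, 2, 4, 4, 4] true) (.leaf [4, 4, 4, 4, 4, 4, 4, 4, 4, 4, 4, 4, 4, 4, 4, 4, 4, 4, 4] true)) (.leaf [4, 0, 2, 0, 2, 0, 3, 0, 3, 0, 2, 4, 4, 4, 4, 4, 4, 0, 2, 0, 2, 0, 3, 0, 3, 0, 2, 4, 4, 4, 4, 4] true))) (.node (.node (.node (.leaf [0, 2, 0, 2, 0, 2, 0, 2, 0, 2, 0, 2, 0, 2] true) (.leaf [3, 0, 2, 4, 4, 4, 4, 4, 4, 0,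 2, 0, 2, 0, 3, 0, 3, 0, 2, 4, 4, 4, 4, 4, 4, 0, 2, 0, 2, 0, 3, 0] true)) (.leaf [4, 0, 2, 4, 4, 4, 0, 2, 4, 4, 4, 0, 2, 4, 4, 4, 0, 2, 4, 4, 4, 0, 2, 4, 4] true)) (.node (.node (.leaf [4, 4, 0, 2, 4, 4, 4, 0, 2, 4, 4, 4, 0, 2, 4, 4, 4, 0, 2, 4, 4, 4, 0, 2, 4] true) (.leaf [4, 4, 4, 4, 4, 4, 4, 4, 4, 4, 4, 4, 4, 4, 4, 4, 4, 4, 4] true)) (.leaf [3, 0, 2, 4, 4, 4, 4, 4, 4, 0, 2, 0, 2, 0, 3, 0, 3, 0, 2, 4, 4, 4, 4, 4, 4, 0, 2, 0, 2, 0, 3, 0] true)))) (.node (.node (.node (.node (.leaf [0, 2, 0, 2, 0, 2, 0, 2, 0, 2, 0, 2, 0, 2] true) (.leaf [2, 0, 3, 0, 3, 0, 2, 4, 4, 4, 4, 4, 4, 0, 2, 0, 2, 0, 3, 0, 3, 0, 2, 4, 4, 4, 4, 4, 4, 0, 2, 0] true)) (.node (.leaf [0, 2, 4, 4, 4, 0, 2, 4, 4, 4, 0, 2, 4, 4, 4, 0, 2,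 4, 4, 4, 0, 2, 4, 4, 4] true) (.leaf [3, 2] true))) (.node (.node (.leaf [4, 0, 2, 4, 4, 4, 0, 2, 4, 4, 4, 0, 2, 4, 4, 4, 0, 2, 4, 4, 4, 0, 2, 4, 4] true) (.leaf [4, 4, 4, 4, 4, 4, 4, 4, 4, 4, 4, 4, 4, 4, 4, 4, 4, 4, 4] true)) (.leaf [2, 0, 3, 0, 3, 0, 2, 4, 4, 4, 4, 4, 4, 0, 2, 0, 2, 0, 3, 0, 3, 0, 2, 4, 4, 4, 4, 4, 4, 0, 2, 0] true))) (.node (.node (.node (.leaf [0, 2, 0, 2, 0, 2, 0, 2, 0, 2, 0, 2, 0, 2] true) (.leaf [4, 4, 4, 4, 4, 4, 4, 4, 4, 4, 4, 4, 4, 4, 4, 4, 4, 4, 4] true)) (.leaf [4, 4, 4, 4, 4, 0, 2, 0, 2, 0, 3, 0, 3, 0, 2, 4, 4, 4, 4, 4, 4, 0, 2, 0, 2, 0, 3, 0, 3, 0, 2, 4] true)) (.node (.node (.leaf [4, 4, 4, 0, 2, 4, 4, 4, 0, 2, 4, 4, 4, 0, 2, 4, 4, 4, 0, 2, 4, 4, 4, 0, 2] true) (.leaf [5,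 0, 2, 0, 3] true)) (.leaf [4, 4, 4, 4, 4, 0, 2, 0, 2, 0, 3, 0, 3, 0, 2, 4, 4, 4, 4, 4, 4, 0, 2, 0, 2, 0, 3, 0, 3, 0, 2, 4] true))))))

end Cfsg.Agent.Lib.H6.J1TC
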