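import Cfsg.Agent.Lib.H6.J1TC.Facts

set_option autoImplicit false
set_option maxRecDepth 1000000

/-! # mask of live nodes of J1 (generated) -/

namespace Cfsg.Agent.Lib.H6.J1TC

open Cfsg.Agent.Lib.H17.CosetCert Cfsg.Agent.Lib.H6.TC

/-- bit mask of the live nodes -/
def mask : ℕ := 0xffffffffffffd7fffffffffdffffbfff9f7fbffffffff76feffffff7ffffafdffffffff7fdf7ffffdf7bddf7f7ffff7dfdfffffffffffdffff7fffffbb5ffffffff7bf9f7bfbdfdfbfddf9dffffffffff5effbefefbffddfffffffdfffffff7fefff7fdfffffffffd7ff7afffffeffff7fbfdf7f5de7bfefff6ffffffffffffff7ddffffffffb5cffeff7eeffbbffaeffdf7ffefeffd7fffbbf77befffffe4fffffeffbffd7ff7fdf97fdf7ffed9fffffdfffffff5fffbfeffffbff9f3fff137afedfedfddf7ebffb6fffffd7fdffffffff8fdeffde5efffbf7fefff7bfffdbffffffbfbdffffffbf5be7d7ff7dddd1feefff7df7bf7fffffef5eff7fefbf179ffffbffef7dcf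f57fbb5faeffefbff777ffbffbfdc7ff7f7fffdfbdefdb7fefdddf7e3f7fff7efffaa7d6dfe6aff7ddf7ebfaffaefdfdef7bef27dbd5efe3dfde5bff77babfef8dbe7fffbfbbbbbbfeedbefeeafbfff7ddbdd7af7fffb4bf7dff9bf3f57ffdff7dbf7fdfdfdaf6f6ffbf5f577ee6db7fafd7beffdf3d7ebfeaffff4ff7fabef97ffdf7ddfdbddfcefec5bfff77fdff79f7dbb5cbfffef6ffefbafeffbefb73bffed7efdedbfbbeefbfbfeffafefffbbffb3d7fdd7bb3f7b7bbfbeef7abedfb36f7ff1dfefeffddffbfdffdf77bbfbbf9f6bffefba6f7de737efbef34eff9dbfabb7f7ebffdf46fda2f27e5fdd99f7ff7bbdfe7eff3df7ddff78cadedee7abf76ddddfffcffe917efbdf6cdfecbd7bbffffbfdff7cfff6dffd7bef87fd7bbfffbeeaffefa77fb2f45e58fe7fdd99ffebffbff7bfdfdeffdfdfdbbfedffcf6f7efaffdb77efeb7dfcfffffaf7bed1bedfdf3bfeedfbeffffffbf6fffd7efbbaabebdf75f5fff1af991fee85ed753f7ddffdfb76fd2fbfefefd7e677df50effffff5fbefdbafbb1ffbf8f5eeeffaff4ff77fbffedbfef3bf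feff7ec715dfbfabeddbffefff7f6c77fbf97ebb76dfbfd7df7fbfffecfd5f7bfbf3dfbf6ffbff77ffefb7eefffffdfbffdb7fd7fee7ffbff3efeeeffafec7ffcfffdffefedfbea863ff7ef7f7fd6fbf776eefbf7efde77c6fbf77ffd7f7fed9f6ef7ecbfbf7fef7d6ff7ed5effbdf7f5faffbf77ffbcef77edfafefddefe1bfd1f3fefff79fff7eebfffbffffeefdfbefbfdfbeefbbefbf7df7777ffffbfbefff7ffffbf7ff7dd7bc1fb77bf7fbf7c3be36ffffffeff77bbbf8ebfe3f5fef7dddfd7fffbffbefbbbbefdfffbfdf7efedf7dffffd6f7ff7ef9bffb7efbbffb7df76fefddefbeeff77febfffff7ffc3dfff5fd7dffffdeefdfddf5f7f7fedf5f7ffdfbdfdfff7ec3fffff31bff7f93dfdffefbf7fffefbfffbfffff7ffffafdf3bffb7efbbbfddfbeef7fbfddf7df77fddbbffd7ffbfffffdfdc6ffbfe4f7fdffefbfffff7fffffb7dffffebfd7dfffffaf77dfdff77f7fbf7eaf7febeffbfffefbf77bff5f7dffffffdfbeeeff75fff7ffff7bfbfffeff7eff7f7eddffefff7effff8f7fbf77faf777fffff7efbbbfdfefddfffff7eef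7ffdfeff7fdfffff7ff7eefdfbef7fbfbbbdf7f7dfaefffdfefffffefdbdfeffeff5ffffdbd7bfaffff7fbdfffeffdffff7ffffeffefddfbf7df7fbfdbdf777df7fbf7ebfffffdebfbfebdf7f5fdffffffffde7ffffffeff5f7f7fffbffdfffefdaeff5f7faffdfffffefbeeff57f7dfffffdbfffbf7bffffff7df77ff75ff7efffffefff7fbddf7ffd7dfffffffffeeef76fffbffefdfaffbf7fffff7fff7fbbf77bf7fbdf7f76efdfdfd7beefdffbbffffffdffbffdfffdf6b6fafbefbfffbbffefdaefffdf7fffefdf77bfafffeefdf77ffbbfff7dffffef7efbbbbfeffbbfdffebdf77fffffffeffafbfbfffffffffbf777ff7deffffffff7ff7df7ddfef5efbffdfb7ddfffffdfff7fffffffbf7fbffefbdbffbfefdfbdfdfff7ffbbfdfffff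

end Cfsg.Agent.Lib.H6.J1TC
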